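import Mathlib
import Cfsg.Agent.R2.T1.Five.Setup
import Cfsg.Agent.R2.T1.Five.CaseI
import Cfsg.Agent.H952.F4.AFive

/-!
# `n = 5`, characteristic different from 5 (helper25)

* `few_false` : few fixed vectors on the adjoint module;
* `rational` : elements of order 5 conjugate to their squares;
* `not_five` : no maximal `A₅`, `S₅` if `(5 : F) ≠ 0`.
-/

set_option autoImplicit false
set_option linter.unusedSectionVars false
set_option maxRecDepth 100000

namespace Cfsg.Agent.R2.T1.Five

open Cfsg Cfsg.Lie Module Equiv Equiv.Perm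
open Cfsg.Agent.H943.E7V.Block (D1 rho)
open Cfsg.Agent.H952.F4 (ev es MaxAlt)
open Cfsg.Agent.R2.T1

universe u

section

variable {F : Type u} [Field F] [Finite F] {H : Subgroup ↥(chevE7.group F)} {φ : A5 →* ↥(chevE7.group F)}

theorem three_le_card (h2 : (2 : F) ≠ 0) : 3 ≤ Nat.card F := by
  have h := two_le_card (F := F)
  rcases Nat.lt_or_ge (Nat.card F) 3 with h3 | h3
  · exfalso
    have h4 : Nat.card F = 2 := by omega
    apply h2
    have := Fintype.ofFinite F
    have h5 : ((Fintype.card F : ℕ) : F) = 0 := FiniteField.cast_card_eq_zero F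
    rw [← Nat.card_eq_fintype_card, h4] at h5
    exact_mod_cast h5
  · exact h3

/-- few fixed vectors -/
theorem few_false (h2 : (2 : F) ≠ 0) (hM : MaxAlt H 5 φ) {m : ℕ} (hq : 274 ≤ Nat.card F ^ m)
    (hm : ∀ k l : ℕ, k + l = finrank F ↥(Representation.invariants (MonoidHom.comp (LK F) φ)) → (H = φ.range → l = 0) →
      m ≤ k ∨ m ≤ l) : False := by
  obtain ⟨k, l, h1, h3, h4⟩ := few h2 hM rfl
  have h5 := order_ge3 (F := F) (three_le_card h2)
  have h6 : Nat.card ↥H ≤ 120 := by
    have h := hM.card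
    rw [if_neg (by norm_num)] at h
    exact h
  have hq0 : 0 < Nat.card F := by have := two_le_card (F := F); omega
  have h7 : 273 ≤ (Nat.card F ^ k - 1) + (Nat.card F ^ l - 1) := by
    rcases hm k l h1 h3 with h | h
    · have := Nat.pow_le_pow_right hq0 h
      omega
    · have := Nat.pow_le_pow_right hq0 h
      omega
  set Q := Nat.card F ^ 133 with hQ
  set N := (Nat.card F ^ k - 1) + (Nat.card F ^ l - 1) with hN
  have hQ1 : 0 < Q := Nat.pow_pos hq0
  have h8 : Nat.card ↥H * (Q - 1) ≤ 120 * (Q - 1) := Nat.mul_le_mul_right _ h6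
  have h9 : 273 * Nat.card ↥(chevE7.group F) ≤ N * Nat.card ↥(chevE7.group F) := Nat.mul_le_mul_right _ h7
  omega

theorem few_range (h2 : (2 : F) ≠ 0) (hM : MaxAlt H 5 φ) (hH : H = φ.range) (hq : 7 ≤ Nat.card F)
    (hd : 3 ≤ finrank F ↥(Representation.invariants (MonoidHom.comp (LK F) φ))) : False := by
  refine few_false h2 hM (m := 3) ?_ fun k l h1 h3 => ?_
  · calc 274 ≤ 7 ^ 3 := by norm_num
      _ ≤ _ := Nat.pow_le_pow_left hq 3
  · left
    have := h3 hH
    omega

theorem few_twelve (h2 : (2 : F) ≠ 0) (hM : MaxAlt H 5 φ)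
    (hd : 12 ≤ finrank F ↥(Representation.invariants (MonoidHom.comp (LK F) φ))) : False := by
  refine few_false h2 hM (m := 6) ?_ fun k l h1 h3 => by omega
  calc 274 ≤ 3 ^ 6 := by norm_num
    _ ≤ _ := Nat.pow_le_pow_left (three_le_card h2) 6

/-- fields of odd characteristic different from 5 containing the golden ratio -/
theorem seven_le (h2 : (2 : F) ≠ 0) (h5 : (5 : F) ≠ 0) {τ : F} (hτ : τ * τ + τ - 1 = 0) : 7 ≤ Nat.card F := by
  have := Fintype.ofFinite F
  have hc : ((Nat.card F : ℕ) : F) = 0 := by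
    rw [Nat.card_eq_fintype_card]; exact FiniteField.cast_card_eq_zero F
  have hp : τ ^ Nat.card F = τ := by rw [Nat.card_eq_fintype_card]; exact FiniteField.pow_card τ
  have h3 := three_le_card h2
  by_contra hlt
  have h4 : Nat.card F = 3 ∨ Nat.card F = 4 ∨ Nat.card F = 5 ∨ Nat.card F = 6 := by omega
  rcases h4 with h | h | h | h
  · rw [h] at hp
    have h6 : τ ^ 3 = 2 * τ - 1 := by linear_combination (τ - 1) * hτ
    rw [h6] at hp
    have h7 : τ = 1 := by linear_combination hp
    rw [h7] at hτ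
    apply one_ne_zero (α := F)
    linear_combination hτ
  · rw [h] at hc
    have h6 : (2 : F) * 2 = 0 := by rw [← hc]; push_cast; ring
    exact h2 (mul_self_eq_zero.1 h6)
  · rw [h] at hc
    apply h5
    rw [← hc]; push_cast; rfl
  · rw [h] at hc hp
    have h6 : (2 : F) * 3 = 0 := by rw [← hc]; push_cast; ring
    have h7 : (3 : F) = 0 := (mul_eq_zero.1 h6).resolve_left h2
    have h8 : τ ^ 6 = 5 - 8 * τ := by linear_combination (τ ^ 4 - τ ^ 3 + 2 * τ ^ 2 - 3 * τ + 5) * hτ
    rw [h8] at hp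
    have h9 : (2 : F) = 0 := by linear_combination hp + (3 * τ - 1) * h7
    exact h2 h9

theorem y_ne (hM : MaxAlt H 5 φ) {y : Gh F} (hy : ad F y = φ b0) : y ≠ 1 := by
  rintro rfl
  rw [map_one] at hy
  exact b0_ne (hM.inj (by rw [← hy, map_one]))

theorem x_ne (hM : MaxAlt H 5 φ) {x : Gh F} (hx : ad F x = φ a0) : ad F x ≠ 1 := by
  intro h
  rw [hx] at h
  exact a0_ne (hM.inj (by rw [h, map_one]))

theorem w_ne (hM : MaxAlt H 5 φ) {x y : Gh F} (hx : ad F x = φ a0) (hy : ad F y = φ b0) : x * y ≠ 1 := by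
  intro h
  have h1 : ad F (x * y) = 1 := by rw [h, map_one]
  rw [map_mul, hx, hy, ← map_mul] at h1
  exact w0_ne (hM.inj (h1.trans (map_one φ).symm))

/-- **the elements of order 5 are not rational** -/
theorem caseII (hM : MaxAlt H 5 φ) (h5 : (5 : F) ≠ 0) (hH : H = φ.range) {x y : Gh F} (hx : ad F x = φ a0)
    (hy : ad F y = φ b0) (hy3 : y ^ 3 = 1)
    (hc : (∃ ψ : A5 →* Gh F, Lift φ ψ ∧ ψ a0 = x ∧ ψ b0 = y) ∨ ((2 : F) ≠ 0 ∧ Cover φ ∧ V F (x * x) = -1))
    {τ : F} (hτ : τ * τ + τ - 1 = 0) (h24 : 24 ≤ finrank F ↥(LinearMap.ker (qd τ (V F (x * y)))))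
    (h27 : 27 ≤ ev (L F (x * y)) 1) : False := by
  have small : V F (x * x) = -1 → 33 ≤ finrank F ↥(LinearMap.ker (qd (-1) (V F y))) → False := by
    intro h h'
    obtain ⟨U, u1, u2, u3, u4⟩ := tw_small (x := x) (y := y) hτ h (by omega)
    exact small_false hM hH hx hy u1 u2 u3 u4
  have hcube : (3 : F) ≠ 0 → finrank F ↥(LinearMap.ker (qd (-1) (V F y))) + ev (V F y) 1 = 56 := by
    intro h3
    rw [← finrank_V (F := F)]
    exact ker_qd_cube h3 (by rw [← map_pow, hy3, map_one])
  by_cases h2 : (2 : F) = 0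
  · rcases hc with ⟨ψ, hψ, rfl, rfl⟩ | ⟨h, -⟩
    swap
    · exact h h2
    have h3 : (3 : F) ≠ 0 := by
      intro h3
      apply one_ne_zero (α := F)
      linear_combination h3 - h2
    have hx2 : ψ a0 * ψ a0 = 1 := by rw [← map_mul, a0_sq, map_one]
    have hneg : V F (ψ a0 * ψ a0) = -1 := by
      rw [hx2, map_one]
      refine LinearMap.ext fun v => ?_
      show v = -v
      have : (2 : F) • v = 0 := by rw [h2, zero_smul]
      rw [two_smul] at this
      exact eq_neg_of_add_eq_zero_left this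
    have hch : CharP F 2 := CharTwo.of_one_ne_zero_of_two_eq_zero one_ne_zero h2
    have h28 : 28 ≤ ev (V F (ψ a0)) 1 := by
      have h6 := ev_ge (p := 2) (T := V F (ψ a0)) (by rw [pow_two, ← map_mul, hx2, map_one])
      rw [finrank_V] at h6
      omega
    have hV := scottV hψ hM
    have hs := hcube h3
    rcases three h3 hy3 (y_ne hM hy) with h | h | h | h | h
    all_goals first | (exact small hneg (by omega)) | omega
  · have scott := scottL h2 hx hy
    have h7 := seven_le h2 h5 hτ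
    have hy1 := y_ne hM hy
    by_cases h3 : (3 : F) = 0
    · have hch : CharP F 3 := by
        obtain ⟨p, hp⟩ := CharP.exists F
        have hpp : p.Prime := CharP.char_is_prime F p
        have h8 : p ∣ 3 := (CharP.cast_eq_zero_iff F p 3).1 (by exact_mod_cast h3)
        rwa [(Nat.prime_dvd_prime_iff_eq hpp Nat.prime_three).1 h8] at hp
      have : Fact (Nat.Prime 3) := ⟨Nat.prime_three⟩
      rcases hc with ⟨ψ, hψ, rfl, rfl⟩ | ⟨-, -, hx2⟩
      · have h8 := two h2 (x := ψ a0) (by rw [← map_mul, a0_sq, map_one]) (x_ne hM hx)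
        have h9 := ev_ge (p := 3) (T := L F (ψ b0)) (by rw [← map_pow, hy3, map_one])
        rw [finrank_L] at h9
        exact few_range h2 hM hH h7 (by omega)
      · have h9 := qd2_ge (p := 3) (T := V F y) (by rw [← map_pow, hy3, map_one])
        rw [finrank_V, show (2 : F) = -1 by linear_combination h3] at h9
        exact small hx2 (by omega)
    · have hs := hcube h3
      rcases hc with ⟨ψ, hψ, rfl, rfl⟩ | ⟨-, -, hx2⟩
      · have h8 := two h2 (x := ψ a0) (by rw [← map_mul, a0_sq, map_one]) (x_ne hM hx)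
        have h9 : 43 ≤ ev (L F (ψ b0)) 1 := by
          rcases three h3 hy3 hy1 with h | h | h | h | h <;> omega
        exact few_range h2 hM hH h7 (by omega)
      · have h8 := four h2 hx2
        rcases three h3 hy3 hy1 with h | h | h | h | h
        · exact small hx2 (by omega)
        · exact few_range h2 hM hH h7 (by omega)
        · exact small hx2 (by omega)
        · exact small hx2 (by omega)
        · exact small hx2 (by omega)

/-- **the elements of order 5 are rational** -/
theorem caseI (hM : MaxAlt H 5 φ) (h5 : (5 : F) ≠ 0) {x y : Gh F} (hx : ad F x = φ a0)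
    (hy : ad F y = φ b0) (hy3 : y ^ 3 = 1) (hw5 : (x * y) ^ 5 = 1)
    (hc : (∃ ψ : A5 →* Gh F, Lift φ ψ ∧ ψ a0 = x ∧ ψ b0 = y) ∨ ((2 : F) ≠ 0 ∧ Cover φ ∧ V F (x * x) = -1))
    (h16 : ev (V F (x * y)) 1 = 16) (h33 : ev (L F (x * y)) 1 = 33) : False := by
  by_cases h2 : (2 : F) = 0
  · rcases hc with ⟨ψ, hψ, rfl, rfl⟩ | ⟨h, -⟩
    swap
    · exact h h2
    have h3 : (3 : F) ≠ 0 := by
      intro h3
      apply one_ne_zero (α := F)
      linear_combination h3 - h2
    have hx2 : ψ a0 * ψ a0 = 1 := by rw [← map_mul, a0_sq, map_one]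
    have hch : CharP F 2 := CharTwo.of_one_ne_zero_of_two_eq_zero one_ne_zero h2
    have h28 : 28 ≤ ev (V F (ψ a0)) 1 := by
      have h6 := ev_ge (p := 2) (T := V F (ψ a0)) (by rw [pow_two, ← map_mul, hx2, map_one])
      rw [finrank_V] at h6
      omega
    have hV := scottV hψ hM
    have hz : orderOf w0 = 5 := orderOf_eq_prime w0_pow w0_ne
    have ht : orderOf b0 = 3 := orderOf_eq_prime b0_cube b0_ne
    have h53 := Cfsg.Agent.H952.F4.AFive.five_le_three (MonoidHom.comp (V F) ψ) hz ht ⊥ ⊤ bot_le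
      (fun g v hv => by rw [Submodule.mem_bot] at hv ⊢; rw [hv, map_zero]) (fun _ _ _ => Submodule.mem_top)
    rw [inf_top_eq, inf_bot_eq, inf_bot_eq, inf_top_eq, finrank_bot, add_zero, zero_add] at h53
    have e1 : finrank F ↥(es ((MonoidHom.comp (V F) ψ) w0) 1) = 16 := by
      rw [← h16, ← map_mul]; rfl
    have e2 : finrank F ↥(es ((MonoidHom.comp (V F) ψ) b0) 1) = ev (V F (ψ b0)) 1 := rfl
    rw [e1, e2] at h53
    omega
  · have scott := scottL h2 hx hy
    have hinv := no_inv h2 h5 (irrL h2) hM hw5 (by rw [map_mul, hx, hy, ← map_mul]; rfl) h16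
    rw [hinv, finrank_bot] at scott
    have hy1 := y_ne hM hy
    have h63 : 63 ≤ ev (L F x) 1 := by
      rcases hc with ⟨ψ, hψ, rfl, rfl⟩ | ⟨-, -, hx2⟩
      · have h8 := two h2 (x := ψ a0) (by rw [← map_mul, a0_sq, map_one]) (x_ne hM hx)
        omega
      · have h8 := four h2 hx2
        omega
    have h43 : 43 ≤ ev (L F y) 1 := by
      by_cases h3 : (3 : F) = 0
      · have hch : CharP F 3 := by
          obtain ⟨p, hp⟩ := CharP.exists F
          have hpp : p.Prime := CharP.char_is_prime F p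
          have h8 : p ∣ 3 := (CharP.cast_eq_zero_iff F p 3).1 (by exact_mod_cast h3)
          rwa [(Nat.prime_dvd_prime_iff_eq hpp Nat.prime_three).1 h8] at hp
        have : Fact (Nat.Prime 3) := ⟨Nat.prime_three⟩
        have h9 := ev_ge (p := 3) (T := L F y) (by rw [← map_pow, hy3, map_one])
        rw [finrank_L] at h9
        omega
      · rcases three h3 hy3 hy1 with h | h | h | h | h <;> omega
    omega

theorem es_pow_le {V : Type*} [AddCommGroup V] [Module F V] [FiniteDimensional F V] {K : Type*} [Field K]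
    {W : Type*} [AddCommGroup W] [Module K W] [FiniteDimensional K W] (T : Module.End K W) (a : K) (k : ℕ) :
    ev T a ≤ ev (T ^ k) (a ^ k) := by
  apply Submodule.finrank_mono
  intro v hv
  rw [Module.End.mem_eigenspace_iff] at hv ⊢
  induction k with
  | zero => rw [pow_zero, pow_zero, one_smul]; rfl
  | succ k ih => rw [pow_succ', Module.End.mul_apply, ih, map_smul, hv, smul_smul, pow_succ]

/-- elements of order 5 which are conjugate to their squares -/
theorem rational (h5 : (5 : F) ≠ 0) {w g : Gh F} (hw : w ^ 5 = 1) (hw1 : w ≠ 1) (hg : g * w * g⁻¹ = w ^ 2) :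
    ev (V F w) 1 = 16 ∧ ev (L F w) 1 = 33 := by
  obtain ⟨p, hpp, hp, hcop⟩ := exists_char (F := F) (N := 5) (by exact_mod_cast h5)
  obtain ⟨ζ, hζ, P, hP, h6⟩ := pat chk5 (by norm_num) p hcop hw
  set f := algebraMap F (AlgebraicClosure F) with hf
  have hconj : ∀ μ, ev (V (AlgebraicClosure F) (emb f w ^ 2)) μ = ev (V (AlgebraicClosure F) (emb f w)) μ := by
    intro μ
    have h7 : emb f w ^ 2 = emb f g * emb f w * (emb f g)⁻¹ := by
      rw [← map_pow, ← hg, map_mul, map_mul, map_inv]
    have h8 : ∀ g w : Gh (AlgebraicClosure F), ev (V (AlgebraicClosure F) w) μ ≤ ev (V (AlgebraicClosure F) (g * w * g⁻¹)) μ := by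
      intro g w
      let e : (D1 → AlgebraicClosure F) →ₗ[AlgebraicClosure F] (D1 → AlgebraicClosure F) := V (AlgebraicClosure F) g
      have he : Function.Injective e := by
        intro a b hab
        rw [← V_inv g a, ← V_inv g b]
        exact congrArg _ hab
      have h9 : (es (V (AlgebraicClosure F) w) μ).map e ≤ es (V (AlgebraicClosure F) (g * w * g⁻¹)) μ := by
        rintro _ ⟨v, hv, rfl⟩
        have hv' := Module.End.mem_eigenspace_iff.1 hv
        refine Module.End.mem_eigenspace_iff.2 ?_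
        show V (AlgebraicClosure F) (g * w * g⁻¹) (V (AlgebraicClosure F) g v) = μ • V (AlgebraicClosure F) g v
        rw [← V_mul, inv_mul_cancel_right, V_mul, hv', map_smul]
      have h10 := Submodule.finrank_mono h9
      rwa [(Submodule.equivMapOfInjective e he _).finrank_eq.symm] at h10
    apply le_antisymm
    · have h9 := h8 (emb f g)⁻¹ (emb f w ^ 2)
      rw [h7] at h9
      have e : (emb f g)⁻¹ * (emb f g * emb f w * (emb f g)⁻¹) * (emb f g)⁻¹⁻¹ = emb f w := by group
      rw [e] at h9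
      rwa [h7]
    · rw [h7]; exact h8 _ _
  have h12 : ev (V (AlgebraicClosure F) (emb f w)) ζ = ev (V (AlgebraicClosure F) (emb f w)) (ζ ^ 2) := by
    apply le_antisymm
    · have h7 := es_pow_le (F := F) (V := F) (V (AlgebraicClosure F) (emb f w)) ζ 2
      rw [← map_pow, hconj] at h7
      exact h7
    · have h7 := es_pow_le (F := F) (V := F) (V (AlgebraicClosure F) (emb f w ^ 2)) (ζ ^ 2) 3
      rw [hconj, ← map_pow, ← pow_mul, ← pow_mul] at h7
      have e1 : emb f w ^ (2 * 3) = emb f w := by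
        have : emb f w ^ 5 = 1 := by rw [← map_pow, hw, map_one]
        rw [show 2 * 3 = 5 + 1 by norm_num, pow_succ, this, one_mul]
      have e2 : ζ ^ (2 * 3) = ζ := by
        rw [show 2 * 3 = 5 + 1 by norm_num, pow_succ, hζ.pow_eq_one, one_mul]
      rwa [e1, e2] at h7
  have e1 := (h6 1 (by norm_num)).1
  have e2 := (h6 2 (by norm_num)).1
  rw [pow_one] at e1
  have h0 := h6 0 (by norm_num)
  rw [pow_zero, ev_V_one, ev_L_one] at h0
  have key : ∀ P ∈ T5, P.1.getD 1 0 = P.1.getD 2 0 → P.1.getD 0 0 = 56 ∨ (P.1.getD 0 0 = 16 ∧ P.2.getD 0 0 = 33) := by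
    decide
  rcases key P hP (by rw [← e1, ← e2, h12]) with h | ⟨h, h'⟩
  · rw [h] at h0
    exact absurd (eq_one_of_ev h0.1) hw1
  · exact ⟨h0.1.trans h, h0.2.trans h'⟩

/-- **characteristic different from 5** -/
theorem not_five (hM : MaxAlt H 5 φ) (h5 : (5 : F) ≠ 0) : False := by
  obtain ⟨x, y, hx, hy, hy3, hw5, hc⟩ := setup hM
  have hw1 := w_ne hM hx hy
  have hw : ad F (x * y) = φ w0 := by rw [map_mul, hx, hy, ← map_mul]; rfl
  rcases hM.five rfl with hH | hrat
  · rcases five h5 hw5 hw1 with ⟨h16, h33⟩ | ⟨τ, hτ, h24, h27⟩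
    · exact caseI hM h5 hx hy hy3 hw5 hc h16 h33
    · exact caseII hM h5 hH hx hy hy3 hc hτ h24 h27
  · obtain ⟨h, -, hh⟩ := hrat (φ w0) ⟨w0, rfl⟩ (fun h => w0_ne (hM.inj (by rw [h, map_one]))) (by
      rw [← map_pow, w0_pow, map_one])
    obtain ⟨g, rfl⟩ := ad_surjective h
    have h6 : g * (x * y) * g⁻¹ = (x * y) ^ 2 := by
      apply odd_unique (k := 5) (by decide)
      · rw [map_mul, map_mul, map_inv, hw, hh, map_pow, hw]
      · rw [conj_pow, hw5, mul_one, mul_inv_cancel]
      · rw [← pow_mul, mul_comm, pow_mul, hw5, one_pow]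
    obtain ⟨h16, h33⟩ := rational h5 hw5 hw1 h6
    exact caseI hM h5 hx hy hy3 hw5 hc h16 h33

end

end Cfsg.Agent.R2.T1.Five
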