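import Mathlib
import Cfsg.Agent.R2.T1.Inf.Cen
import Cfsg.Agent.H943.E7V.Wt

/-!
# The elements of order 5 with 16 fixed weights: the table (helper25)

* `TW`, `TR` : the doubled coordinates of the weights (of the roots) modulo 5, and the values of the simple coroots modulo 2;
* `alc_chk` : for the vectors of the alcove with 16 zero weights there is exactly one good sign vector.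
-/

set_option autoImplicit false
set_option maxRecDepth 100000

namespace Cfsg.Agent.R2.T1.Five

open Cfsg Cfsg.Lie
open Cfsg.Agent.ChevalleyStructure Cfsg.Agent.ChevalleyStructure.Elts Cfsg.Agent.ChevalleyStructure.RootVec
  Cfsg.Agent.ChevalleyStructure.RootVecTab
open Cfsg.Agent.H943.E7V.Wt Cfsg.Agent.H944.Tab Cfsg.Agent.H944.E7Two

/-- residues of a weight -/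
def rowW (s : ℕ) : List ℕ × List ℕ := ((List.range 7).map fun j => ((cc s j) % 5).toNat,
  (List.range 7).map fun i => ((chevE8.cartan i s) % 2).toNat)

/-- residues of a root -/
def rowR (r : ℕ) : List ℕ × List ℕ := ((List.range 7).map fun j => ((rt chevE7 r j) % 5).toNat,
  (List.range 7).map fun i => ((chevE7.cartan i r) % 2).toNat)

/-- the table of the weights -/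
def TW : List (List ℕ × List ℕ) :=
  [([3, 2, 1, 4, 0, 1, 2], [0, 0, 0, 0, 0, 0, 1]), ([3, 2, 1, 4, 0, 1, 4], [0, 0, 0, 0, 0, 1, 1]),
   ([3, 2, 1, 4, 0, 3, 4], [0, 0, 0, 0, 1, 1, 0]), ([3, 2, 1, 4, 2, 3, 4], [0, 0, 0, 1, 1, 0, 0]),
   ([3, 2, 1, 1, 2, 3, 4], [0, 1, 1, 1, 0, 0, 0]), ([3, 2, 3, 1, 2, 3, 4], [1, 1, 1, 0, 0, 0, 0]),
   ([3, 4, 1, 1, 2, 3, 4], [0, 1, 1, 0, 0, 0, 0]), ([3, 4, 3, 1, 2, 3, 4], [1, 1, 1, 1, 0, 0, 0]),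
   ([3, 4, 3, 3, 2, 3, 4], [1, 0, 0, 1, 1, 0, 0]), ([3, 4, 3, 3, 4, 3, 4], [1, 0, 0, 0, 1, 1, 0]),
   ([3, 4, 3, 3, 4, 0, 4], [1, 0, 0, 0, 0, 1, 1]), ([3, 4, 3, 3, 4, 0, 1], [1, 0, 0, 0, 0, 0, 1]),
   ([0, 2, 3, 1, 2, 3, 4], [1, 1, 0, 0, 0, 0, 0]), ([0, 4, 3, 1, 2, 3, 4], [1, 1, 0, 1, 0, 0, 0]),
   ([0, 4, 3, 3, 2, 3, 4], [1, 0, 1, 1, 1, 0, 0]), ([0, 4, 3, 3, 4, 3, 4], [1, 0, 1, 0, 1, 1, 0]),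
   ([0, 4, 3, 3, 4, 0, 4], [1, 0, 1, 0, 0, 1, 1]), ([0, 4, 3, 3, 4, 0, 1], [1, 0, 1, 0, 0, 0, 1]),
   ([0, 4, 0, 3, 2, 3, 4], [0, 0, 1, 0, 1, 0, 0]), ([0, 4, 0, 3, 4, 3, 4], [0, 0, 1, 1, 1, 1, 0]),
   ([0, 4, 0, 3, 4, 0, 4], [0, 0, 1, 1, 0, 1, 1]), ([0, 4, 0, 3, 4, 0, 1], [0, 0, 1, 1, 0, 0, 1]),
   ([0, 4, 0, 0, 4, 3, 4], [0, 1, 0, 1, 0, 1, 0]), ([0, 4, 0, 0, 4, 0, 4], [0, 1, 0, 1, 1, 1, 1]),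
   ([0, 4, 0, 0, 4, 0, 1], [0, 1, 0, 1, 1, 0, 1]), ([0, 4, 0, 0, 1, 0, 4], [0, 1, 0, 0, 1, 0, 1]),
   ([0, 4, 0, 0, 1, 0, 1], [0, 1, 0, 0, 1, 1, 1]), ([0, 4, 0, 0, 1, 2, 1], [0, 1, 0, 0, 0, 1, 0]),
   ([0, 1, 0, 0, 4, 3, 4], [0, 1, 0, 0, 0, 1, 0]), ([0, 1, 0, 0, 4, 0, 4], [0, 1, 0, 0, 1, 1, 1]),
   ([0, 1, 0, 0, 4, 0, 1], [0, 1, 0, 0, 1, 0, 1]), ([0, 1, 0, 0, 1, 0, 4], [0, 1, 0, 1, 1, 0, 1]),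
   ([0, 1, 0, 0, 1, 0, 1], [0, 1, 0, 1, 1, 1, 1]), ([0, 1, 0, 0, 1, 2, 1], [0, 1, 0, 1, 0, 1, 0]),
   ([0, 1, 0, 2, 1, 0, 4], [0, 0, 1, 1, 0, 0, 1]), ([0, 1, 0, 2, 1, 0, 1], [0, 0, 1, 1, 0, 1, 1]),
   ([0, 1, 0, 2, 1, 2, 1], [0, 0, 1, 1, 1, 1, 0]), ([0, 1, 0, 2, 3, 2, 1], [0, 0, 1, 0, 1, 0, 0]),
   ([0, 1, 2, 2, 1, 0, 4], [1, 0, 1, 0, 0, 0, 1]), ([0, 1, 2, 2, 1, 0, 1], [1, 0, 1, 0, 0, 1, 1]),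
   ([0, 1, 2, 2, 1, 2, 1], [1, 0, 1, 0, 1, 1, 0]), ([0, 1, 2, 2, 3, 2, 1], [1, 0, 1, 1, 1, 0, 0]),
   ([0, 1, 2, 4, 3, 2, 1], [1, 1, 0, 1, 0, 0, 0]), ([0, 3, 2, 4, 3, 2, 1], [1, 1, 0, 0, 0, 0, 0]),
   ([2, 1, 2, 2, 1, 0, 4], [1, 0, 0, 0, 0, 0, 1]), ([2, 1, 2, 2, 1, 0, 1], [1, 0, 0, 0, 0, 1, 1]),
   ([2, 1, 2, 2, 1, 2, 1], [1, 0, 0, 0, 1, 1, 0]), ([2, 1, 2, 2, 3, 2, 1], [1, 0, 0, 1, 1, 0, 0]),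
   ([2, 1, 2, 4, 3, 2, 1], [1, 1, 1, 1, 0, 0, 0]), ([2, 1, 4, 4, 3, 2, 1], [0, 1, 1, 0, 0, 0, 0]),
   ([2, 3, 2, 4, 3, 2, 1], [1, 1, 1, 0, 0, 0, 0]), ([2, 3, 4, 4, 3, 2, 1], [0, 1, 1, 1, 0, 0, 0]),
   ([2, 3, 4, 1, 3, 2, 1], [0, 0, 0, 1, 1, 0, 0]), ([2, 3, 4, 1, 0, 2, 1], [0, 0, 0, 0, 1, 1, 0]),
   ([2, 3, 4, 1, 0, 4, 1], [0, 0, 0, 0, 0, 1, 1]), ([2, 3, 4, 1, 0, 4, 3], [0, 0, 0, 0, 0, 0, 1])]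

/-- the table of the roots -/
def TR : List (List ℕ × List ℕ) :=
  [([3, 3, 2, 1, 2, 3, 4], [1, 0, 0, 0, 0, 0, 0]), ([4, 3, 2, 1, 2, 3, 4], [1, 0, 1, 0, 0, 0, 0]),
   ([4, 3, 3, 1, 2, 3, 4], [0, 0, 1, 1, 0, 0, 0]), ([4, 3, 3, 2, 2, 3, 4], [0, 1, 0, 1, 1, 0, 0]),
   ([4, 3, 3, 2, 3, 3, 4], [0, 1, 0, 0, 1, 1, 0]), ([4, 3, 3, 2, 3, 4, 4], [0, 1, 0, 0, 0, 1, 1]),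
   ([4, 3, 3, 2, 3, 4, 0], [0, 1, 0, 0, 0, 0, 1]), ([4, 4, 3, 2, 2, 3, 4], [0, 1, 0, 0, 1, 0, 0]),
   ([4, 4, 3, 2, 3, 3, 4], [0, 1, 0, 1, 1, 1, 0]), ([4, 4, 3, 2, 3, 4, 4], [0, 1, 0, 1, 0, 1, 1]),
   ([4, 4, 3, 2, 3, 4, 0], [0, 1, 0, 1, 0, 0, 1]), ([4, 4, 3, 3, 3, 3, 4], [0, 0, 1, 1, 0, 1, 0]),
   ([4, 4, 3, 3, 3, 4, 4], [0, 0, 1, 1, 1, 1, 1]), ([4, 4, 3, 3, 3, 4, 0], [0, 0, 1, 1, 1, 0, 1]),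
   ([4, 4, 3, 3, 4, 4, 4], [0, 0, 1, 0, 1, 0, 1]), ([4, 4, 3, 3, 4, 4, 0], [0, 0, 1, 0, 1, 1, 1]),
   ([4, 4, 3, 3, 4, 0, 0], [0, 0, 1, 0, 0, 1, 0]), ([4, 4, 4, 3, 3, 3, 4], [1, 0, 1, 0, 0, 1, 0]),
   ([4, 4, 4, 3, 3, 4, 4], [1, 0, 1, 0, 1, 1, 1]), ([4, 4, 4, 3, 3, 4, 0], [1, 0, 1, 0, 1, 0, 1]),
   ([4, 4, 4, 3, 4, 4, 4], [1, 0, 1, 1, 1, 0, 1]), ([4, 4, 4, 3, 4, 4, 0], [1, 0, 1, 1, 1, 1, 1]),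
   ([4, 4, 4, 3, 4, 0, 0], [1, 0, 1, 1, 0, 1, 0]), ([4, 4, 4, 4, 4, 4, 4], [1, 1, 0, 1, 0, 0, 1]),
   ([4, 4, 4, 4, 4, 4, 0], [1, 1, 0, 1, 0, 1, 1]), ([4, 4, 4, 4, 4, 0, 0], [1, 1, 0, 1, 1, 1, 0]),
   ([4, 4, 4, 4, 0, 0, 0], [1, 1, 0, 0, 1, 0, 0]), ([4, 0, 4, 4, 4, 4, 4], [1, 1, 0, 0, 0, 0, 1]),
   ([4, 0, 4, 4, 4, 4, 0], [1, 1, 0, 0, 0, 1, 1]), ([4, 0, 4, 4, 4, 0, 0], [1, 1, 0, 0, 1, 1, 0]),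
   ([4, 0, 4, 4, 0, 0, 0], [1, 1, 0, 1, 1, 0, 0]), ([4, 0, 4, 0, 0, 0, 0], [1, 0, 1, 1, 0, 0, 0]),
   ([4, 0, 0, 0, 0, 0, 0], [0, 0, 1, 0, 0, 0, 0]), ([0, 4, 4, 3, 3, 3, 4], [1, 0, 0, 0, 0, 1, 0]),
   ([0, 4, 4, 3, 3, 4, 4], [1, 0, 0, 0, 1, 1, 1]), ([0, 4, 4, 3, 3, 4, 0], [1, 0, 0, 0, 1, 0, 1]),
   ([0, 4, 4, 3, 4, 4, 4], [1, 0, 0, 1, 1, 0, 1]), ([0, 4, 4, 3, 4, 4, 0], [1, 0, 0, 1, 1, 1, 1]),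
   ([0, 4, 4, 3, 4, 0, 0], [1, 0, 0, 1, 0, 1, 0]), ([0, 4, 4, 4, 4, 4, 4], [1, 1, 1, 1, 0, 0, 1]),
   ([0, 4, 4, 4, 4, 4, 0], [1, 1, 1, 1, 0, 1, 1]), ([0, 4, 4, 4, 4, 0, 0], [1, 1, 1, 1, 1, 1, 0]),
   ([0, 4, 4, 4, 0, 0, 0], [1, 1, 1, 0, 1, 0, 0]), ([0, 4, 0, 4, 4, 4, 4], [0, 1, 1, 0, 0, 0, 1]),
   ([0, 4, 0, 4, 4, 4, 0], [0, 1, 1, 0, 0, 1, 1]), ([0, 4, 0, 4, 4, 0, 0], [0, 1, 1, 0, 1, 1, 0]),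
   ([0, 4, 0, 4, 0, 0, 0], [0, 1, 1, 1, 1, 0, 0]), ([0, 4, 0, 0, 0, 0, 0], [0, 0, 0, 1, 0, 0, 0]),
   ([0, 0, 4, 4, 4, 4, 4], [1, 1, 1, 0, 0, 0, 1]), ([0, 0, 4, 4, 4, 4, 0], [1, 1, 1, 0, 0, 1, 1]),
   ([0, 0, 4, 4, 4, 0, 0], [1, 1, 1, 0, 1, 1, 0]), ([0, 0, 4, 4, 0, 0, 0], [1, 1, 1, 1, 1, 0, 0]),
   ([0, 0, 4, 0, 0, 0, 0], [1, 0, 0, 1, 0, 0, 0]), ([0, 0, 0, 4, 4, 4, 4], [0, 1, 1, 1, 0, 0, 1]),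
   ([0, 0, 0, 4, 4, 4, 0], [0, 1, 1, 1, 0, 1, 1]), ([0, 0, 0, 4, 4, 0, 0], [0, 1, 1, 1, 1, 1, 0]),
   ([0, 0, 0, 4, 0, 0, 0], [0, 1, 1, 0, 1, 0, 0]), ([0, 0, 0, 0, 4, 4, 4], [0, 0, 0, 1, 1, 0, 1]),
   ([0, 0, 0, 0, 4, 4, 0], [0, 0, 0, 1, 1, 1, 1]), ([0, 0, 0, 0, 4, 0, 0], [0, 0, 0, 1, 0, 1, 0]),
   ([0, 0, 0, 0, 0, 4, 4], [0, 0, 0, 0, 1, 1, 1]), ([0, 0, 0, 0, 0, 4, 0], [0, 0, 0, 0, 1, 0, 1]),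
   ([0, 0, 0, 0, 0, 0, 4], [0, 0, 0, 0, 0, 1, 0]), ([0, 0, 0, 0, 0, 0, 1], [0, 0, 0, 0, 0, 1, 0]),
   ([0, 0, 0, 0, 0, 1, 0], [0, 0, 0, 0, 1, 0, 1]), ([0, 0, 0, 0, 0, 1, 1], [0, 0, 0, 0, 1, 1, 1]),
   ([0, 0, 0, 0, 1, 0, 0], [0, 0, 0, 1, 0, 1, 0]), ([0, 0, 0, 0, 1, 1, 0], [0, 0, 0, 1, 1, 1, 1]),
   ([0, 0, 0, 0, 1, 1, 1], [0, 0, 0, 1, 1, 0, 1]), ([0, 0, 0, 1, 0, 0, 0], [0, 1, 1, 0, 1, 0, 0]),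
   ([0, 0, 0, 1, 1, 0, 0], [0, 1, 1, 1, 1, 1, 0]), ([0, 0, 0, 1, 1, 1, 0], [0, 1, 1, 1, 0, 1, 1]),
   ([0, 0, 0, 1, 1, 1, 1], [0, 1, 1, 1, 0, 0, 1]), ([0, 0, 1, 0, 0, 0, 0], [1, 0, 0, 1, 0, 0, 0]),
   ([0, 0, 1, 1, 0, 0, 0], [1, 1, 1, 1, 1, 0, 0]), ([0, 0, 1, 1, 1, 0, 0], [1, 1, 1, 0, 1, 1, 0]),
   ([0, 0, 1, 1, 1, 1, 0], [1, 1, 1, 0, 0, 1, 1]), ([0, 0, 1, 1, 1, 1, 1], [1, 1, 1, 0, 0, 0, 1]),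
   ([0, 1, 0, 0, 0, 0, 0], [0, 0, 0, 1, 0, 0, 0]), ([0, 1, 0, 1, 0, 0, 0], [0, 1, 1, 1, 1, 0, 0]),
   ([0, 1, 0, 1, 1, 0, 0], [0, 1, 1, 0, 1, 1, 0]), ([0, 1, 0, 1, 1, 1, 0], [0, 1, 1, 0, 0, 1, 1]),
   ([0, 1, 0, 1, 1, 1, 1], [0, 1, 1, 0, 0, 0, 1]), ([0, 1, 1, 1, 0, 0, 0], [1, 1, 1, 0, 1, 0, 0]),
   ([0, 1, 1, 1, 1, 0, 0], [1, 1, 1, 1, 1, 1, 0]), ([0, 1, 1, 1, 1, 1, 0], [1, 1, 1, 1, 0, 1, 1]),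
   ([0, 1, 1, 1, 1, 1, 1], [1, 1, 1, 1, 0, 0, 1]), ([0, 1, 1, 2, 1, 0, 0], [1, 0, 0, 1, 0, 1, 0]),
   ([0, 1, 1, 2, 1, 1, 0], [1, 0, 0, 1, 1, 1, 1]), ([0, 1, 1, 2, 1, 1, 1], [1, 0, 0, 1, 1, 0, 1]),
   ([0, 1, 1, 2, 2, 1, 0], [1, 0, 0, 0, 1, 0, 1]), ([0, 1, 1, 2, 2, 1, 1], [1, 0, 0, 0, 1, 1, 1]),
   ([0, 1, 1, 2, 2, 2, 1], [1, 0, 0, 0, 0, 1, 0]), ([1, 0, 0, 0, 0, 0, 0], [0, 0, 1, 0, 0, 0, 0]),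
   ([1, 0, 1, 0, 0, 0, 0], [1, 0, 1, 1, 0, 0, 0]), ([1, 0, 1, 1, 0, 0, 0], [1, 1, 0, 1, 1, 0, 0]),
   ([1, 0, 1, 1, 1, 0, 0], [1, 1, 0, 0, 1, 1, 0]), ([1, 0, 1, 1, 1, 1, 0], [1, 1, 0, 0, 0, 1, 1]),
   ([1, 0, 1, 1, 1, 1, 1], [1, 1, 0, 0, 0, 0, 1]), ([1, 1, 1, 1, 0, 0, 0], [1, 1, 0, 0, 1, 0, 0]),
   ([1, 1, 1, 1, 1, 0, 0], [1, 1, 0, 1, 1, 1, 0]), ([1, 1, 1, 1, 1, 1, 0], [1, 1, 0, 1, 0, 1, 1]),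
   ([1, 1, 1, 1, 1, 1, 1], [1, 1, 0, 1, 0, 0, 1]), ([1, 1, 1, 2, 1, 0, 0], [1, 0, 1, 1, 0, 1, 0]),
   ([1, 1, 1, 2, 1, 1, 0], [1, 0, 1, 1, 1, 1, 1]), ([1, 1, 1, 2, 1, 1, 1], [1, 0, 1, 1, 1, 0, 1]),
   ([1, 1, 1, 2, 2, 1, 0], [1, 0, 1, 0, 1, 0, 1]), ([1, 1, 1, 2, 2, 1, 1], [1, 0, 1, 0, 1, 1, 1]),
   ([1, 1, 1, 2, 2, 2, 1], [1, 0, 1, 0, 0, 1, 0]), ([1, 1, 2, 2, 1, 0, 0], [0, 0, 1, 0, 0, 1, 0]),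
   ([1, 1, 2, 2, 1, 1, 0], [0, 0, 1, 0, 1, 1, 1]), ([1, 1, 2, 2, 1, 1, 1], [0, 0, 1, 0, 1, 0, 1]),
   ([1, 1, 2, 2, 2, 1, 0], [0, 0, 1, 1, 1, 0, 1]), ([1, 1, 2, 2, 2, 1, 1], [0, 0, 1, 1, 1, 1, 1]),
   ([1, 1, 2, 2, 2, 2, 1], [0, 0, 1, 1, 0, 1, 0]), ([1, 1, 2, 3, 2, 1, 0], [0, 1, 0, 1, 0, 0, 1]),
   ([1, 1, 2, 3, 2, 1, 1], [0, 1, 0, 1, 0, 1, 1]), ([1, 1, 2, 3, 2, 2, 1], [0, 1, 0, 1, 1, 1, 0]),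
   ([1, 1, 2, 3, 3, 2, 1], [0, 1, 0, 0, 1, 0, 0]), ([1, 2, 2, 3, 2, 1, 0], [0, 1, 0, 0, 0, 0, 1]),
   ([1, 2, 2, 3, 2, 1, 1], [0, 1, 0, 0, 0, 1, 1]), ([1, 2, 2, 3, 2, 2, 1], [0, 1, 0, 0, 1, 1, 0]),
   ([1, 2, 2, 3, 3, 2, 1], [0, 1, 0, 1, 1, 0, 0]), ([1, 2, 2, 4, 3, 2, 1], [0, 0, 1, 1, 0, 0, 0]),
   ([1, 2, 3, 4, 3, 2, 1], [1, 0, 1, 0, 0, 0, 0]), ([2, 2, 3, 4, 3, 2, 1], [1, 0, 0, 0, 0, 0, 0])]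

theorem TW_eq : ((List.range 240).filter fun s => decide (rt chevE8 s 7 = 1)).map rowW = TW := by decide +kernel

theorem TR_eq : (List.range 126).map rowR = TR := by decide +kernel

/-- the bits of a number -/
def bits (m : ℕ) : List ℕ := (List.range 7).map fun i => m / 2 ^ i % 2

/-- the value modulo 5 is zero -/
def z5 (Y : List ℕ) (x : List ℕ × List ℕ) : Bool := Nat.beq (dotN x.1 Y % 5) 0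

/-- the value modulo 2 is zero -/
def ev2 (B : List ℕ) (x : List ℕ × List ℕ) : Bool := Nat.beq (dotN x.2 B % 2) 0

/-- the sign vector is good -/
def good (Y B : List ℕ) : Bool := (TR.all fun x => !(z5 Y x) || ev2 B x) && ((TW.all fun x => !(z5 Y x) || !(ev2 B x)) &&
  Nat.beq (TW.filter (ev2 B)).length 32)

/-- the number of zero weights -/
def cnt0 (Y : List ℕ) : ℕ := (TW.filter (z5 Y)).length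

/-- the number of good sign vectors -/
def cgood (Y : List ℕ) : ℕ → ℕ
  | 0 => 0
  | k + 1 => cgood Y k + bif good Y (bits k) then 1 else 0

theorem alc_chk : allAlc th7 5 (fun Y => !(Nat.beq (cnt0 Y) 16) || Nat.beq (cgood Y 128) 1) = true := by decide +kernel

end Cfsg.Agent.R2.T1.Five
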